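import Groth.Agent.RelSpecLib.FiniteGen
import Groth.Agent.RelSpecLib.ConeImm
import Groth.Agent.RelProjLib.RLpsiLimImm

/-! An immersion into a relative spectrum is one into that of a subalgebra of finite type. -/

set_option autoImplicit false
set_option backward.isDefEq.respectTransparency false
set_option linter.style.haveILetI false

universe u

open CategoryTheory CategoryTheory.Limits AlgebraicGeometry TopologicalSpace Opposite

noncomputable section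

namespace Groth.Agent.SubAlgImmLib

theorem surjective_appLE_congr {A B : Scheme.{u}} (f : A ⟶ B) {O O' : B.Opens} {W W' : A.Opens}
    (hO : O' = O) (hW : W' = W) (e : W ≤ f ⁻¹ᵁ O) (e' : W' ≤ f ⁻¹ᵁ O') :
    Function.Surjective (f.appLE O' W' e') ↔ Function.Surjective (f.appLE O W e) := by
  subst hO hW
  rfl

/-- A restriction over an affine open is a closed immersion iff it is affine and surjective on functions. -/
theorem isClosedImmersion_restrict_iff {A B : Scheme.{u}} (f : A ⟶ B) {O : B.Opens} (hO : IsAffineOpen O) :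
    IsClosedImmersion (f ∣_ O) ↔
      IsAffineOpen (f ⁻¹ᵁ O) ∧ Function.Surjective (f.appLE O (f ⁻¹ᵁ O) le_rfl) := by
  haveI : IsAffine (O : Scheme.{u}) := hO
  have key : Function.Surjective (f ∣_ O).appTop ↔ Function.Surjective (f.appLE O (f ⁻¹ᵁ O) le_rfl) := by
    rw [Scheme.Hom.appTop, morphismRestrict_app']
    exact surjective_appLE_congr f O.ι_image_top (f ⁻¹ᵁ O).ι_image_top _ _
  constructor
  · intro h
    obtain ⟨h1, h2⟩ := IsClosedImmersion.isAffine_surjective_of_isAffine (f ∣_ O)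
    exact ⟨h1, key.1 h2⟩
  · rintro ⟨h1, h2⟩
    haveI : IsAffine ((f ⁻¹ᵁ O : A.Opens) : Scheme.{u}) := h1
    exact IsClosedImmersion.of_surjective_of_isAffine _ (key.2 h2)

theorem appLE_res {T S S' : Scheme.{u}} (g : T ⟶ S) (σ : S ⟶ S') {P O : S'.Opens} {Q D : S.Opens} {W : T.Opens}
    (hOP : O ≤ P) (hDQ : D ≤ Q) (eQ : Q ≤ σ ⁻¹ᵁ P) (eW : W ≤ g ⁻¹ᵁ D) (eO : W ≤ (g ≫ σ) ⁻¹ᵁ O) (x : Γ(S', P)) :
    (g ≫ σ).appLE O W eO (S'.presheaf.map (homOfLE hOP).op x) =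
      g.appLE D W eW (S.presheaf.map (homOfLE hDQ).op (σ.appLE P Q eQ x)) := by
  show (S'.presheaf.map (homOfLE hOP).op ≫ (g ≫ σ).appLE O W eO) x =
    (σ.appLE P Q eQ ≫ S.presheaf.map (homOfLE hDQ).op ≫ g.appLE D W eW) x
  rw [Scheme.Hom.map_appLE, Scheme.Hom.map_appLE, Scheme.Hom.appLE_comp_appLE]

variable {X Y : Scheme.{u}} {A C : RelSpec.QCAlg Y}

theorem specMap_preimage (φ : A ⟶ C) (U : Y.Opens) :
    RelSpec.QCAlg.specMap φ ⁻¹ᵁ (A.π ⁻¹ᵁ U) = C.π ⁻¹ᵁ U := by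
  rw [← Scheme.Hom.comp_preimage, RelSpec.QCAlg.specMap_π]

theorem specMap_appLE_gammaAff (φ : A ⟶ C) (U : Y.Opens) (hU : IsAffineOpen U) :
    (RelSpec.QCAlg.specMap φ).appLE (A.π ⁻¹ᵁ U) (C.π ⁻¹ᵁ U) (specMap_preimage φ U).ge ≫ C.gammaAff U hU =
      A.gammaAff U hU ≫ φ.hom.app (op U) := by
  have aux : ∀ (h : Spec (C.presheaf.obj (op U)) ⟶ A.spec) (e : ⊤ ≤ h ⁻¹ᵁ (A.π ⁻¹ᵁ U)),
      h = Spec.map (φ.hom.app (op U)) ≫ A.ι U hU →
      h.appLE _ ⊤ e ≫ (Scheme.ΓSpecIso _).hom = A.gammaAff U hU ≫ φ.hom.app (op U) := by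
    rintro h e rfl
    rw [RelSpec.QCAlg.gammaAff, Category.assoc, ← Scheme.ΓSpecIso_naturality, ← Category.assoc]
    congr 1
  rw [RelSpec.QCAlg.gammaAff, ← Category.assoc, Scheme.Hom.appLE_comp_appLE]
  exact aux _ _ (RelSpec.QCAlg.ι_specMap U hU φ)

/-- Enough generators in the subalgebra give a closed immersion over the standard open. -/
theorem closed_restrict_specMap (f : X ⟶ Y) [LocallyOfFiniteType f] (g : X ⟶ C.spec) (hg : g ≫ C.π = f)
    (U : Y.Opens) (hU : IsAffineOpen U) (c : Γ(C.spec, C.π ⁻¹ᵁ U))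
    (hc : IsClosedImmersion (g ∣_ C.spec.basicOpen c)) :
    ∃ s : Finset (C.presheaf.obj (op U)), ∀ (A : RelSpec.QCAlg Y) (φ : A ⟶ C),
      (∀ b ∈ s, b ∈ Set.range (φ.hom.app (op U)).hom) →
      ∃ O : A.spec.Opens, (g ≫ RelSpec.QCAlg.specMap φ) ⁻¹ᵁ O = g ⁻¹ᵁ C.spec.basicOpen c ∧
        IsClosedImmersion ((g ≫ RelSpec.QCAlg.specMap φ) ∣_ O) := by
  classical
  have hU' : IsAffineOpen (C.π ⁻¹ᵁ U) := RelSpecLib.isAffineOpen_preimage C U hU
  let D := C.spec.basicOpen c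
  let W := g ⁻¹ᵁ D
  obtain ⟨hW, hsurj⟩ := (isClosedImmersion_restrict_iff g (hU'.basicOpen c)).1 hc
  have hWU : W ≤ f ⁻¹ᵁ U := by
    rw [← hg, Scheme.Hom.comp_preimage]
    exact g.preimage_mono (C.spec.basicOpen_le c)
  letI := (f.appLE U W hWU).hom.toAlgebra
  have hft : Algebra.FiniteType Γ(Y, U) Γ(X, W) := f.finiteType_appLE hU hW hWU
  obtain ⟨t, ht⟩ := hft.out
  haveI := hU'.isLocalization_basicOpen c
  have hz : ∀ h : Γ(X, W), ∃ (n : ℕ) (b : Γ(C.spec, C.π ⁻¹ᵁ U)),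
      h * g.appLE D W le_rfl (C.spec.presheaf.map (homOfLE (C.spec.basicOpen_le c)).op c) ^ n =
        g.appLE D W le_rfl (C.spec.presheaf.map (homOfLE (C.spec.basicOpen_le c)).op b) := fun h => by
    obtain ⟨z, rfl⟩ := hsurj h
    obtain ⟨n, b, hb⟩ := IsLocalization.Away.surj c z
    refine ⟨n, b, ?_⟩
    rw [← map_pow, ← map_mul]
    exact congrArg _ hb
  choose n b hb using hz
  refine ⟨insert (C.gammaAff U hU c) (t.image fun h => C.gammaAff U hU (b h)), fun A φ hφ => ?_⟩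
  haveI := SpecQCAlg.isIso_gammaAff C U hU
  haveI := SpecQCAlg.isIso_gammaAff A U hU
  let σ := RelSpec.QCAlg.specMap φ
  have eU := specMap_preimage φ U
  have hlift : ∀ x : Γ(C.spec, C.π ⁻¹ᵁ U), C.gammaAff U hU x ∈ Set.range (φ.hom.app (op U)).hom →
      ∃ x' : Γ(A.spec, A.π ⁻¹ᵁ U), σ.appLE (A.π ⁻¹ᵁ U) (C.π ⁻¹ᵁ U) eU.ge x' = x := fun x ⟨y, hy⟩ => by
    obtain ⟨x', rfl⟩ := (ConcreteCategory.bijective_of_isIso (A.gammaAff U hU)).2 y
    refine ⟨x', (ConcreteCategory.bijective_of_isIso (C.gammaAff U hU)).1 ?_⟩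
    exact (ConcreteCategory.congr_hom (specMap_appLE_gammaAff φ U hU) x').trans hy
  obtain ⟨c', hc'⟩ := hlift c (hφ _ (Finset.mem_insert_self _ _))
  let O := A.spec.basicOpen c'
  have hO : σ ⁻¹ᵁ O = D := by
    show _ = C.spec.basicOpen c
    rw [← hc', Scheme.Hom.appLE, CommRingCat.comp_apply, Scheme.basicOpen_res, ← Scheme.preimage_basicOpen]
    exact (inf_eq_right.2 ((σ.preimage_mono (A.spec.basicOpen_le c')).trans eU.le)).symm
  have hW' : (g ≫ σ) ⁻¹ᵁ O = W := by rw [Scheme.Hom.comp_preimage, hO]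
  have hres : ∀ x : Γ(A.spec, A.π ⁻¹ᵁ U),
      (g ≫ σ).appLE O W hW'.ge (A.spec.presheaf.map (homOfLE (A.spec.basicOpen_le c')).op x) =
        g.appLE D W le_rfl (C.spec.presheaf.map (homOfLE (C.spec.basicOpen_le c)).op
          (σ.appLE (A.π ⁻¹ᵁ U) (C.π ⁻¹ᵁ U) eU.ge x)) := fun x =>
    appLE_res g σ (A.spec.basicOpen_le c') (C.spec.basicOpen_le c) eU.ge le_rfl hW'.ge x
  refine ⟨O, hW', (isClosedImmersion_restrict_iff _ ((RelSpecLib.isAffineOpen_preimage A U hU).basicOpen c')).2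
    ⟨hW' ▸ hW, (surjective_appLE_congr (g ≫ σ) rfl hW' hW'.ge le_rfl).2 ?_⟩⟩
  let ρ : Γ(A.spec, O) →+* Γ(X, W) := ((g ≫ σ).appLE O W hW'.ge).hom
  have hstr : ∀ r : Γ(Y, U), algebraMap Γ(Y, U) Γ(X, W) r ∈ ρ.range := fun r => by
    refine ⟨A.π.appLE U O (A.spec.basicOpen_le c') r, ?_⟩
    show (A.π.appLE U O _ ≫ (g ≫ σ).appLE O W hW'.ge) r = f.appLE U W hWU r
    rw [Scheme.Hom.appLE_comp_appLE]
    have e : (g ≫ σ) ≫ A.π = f := by rw [Category.assoc, RelSpec.QCAlg.specMap_π, hg]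
    simp only [e]
  let R : Subalgebra Γ(Y, U) Γ(X, W) := { ρ.range.toSubsemiring with algebraMap_mem' := hstr }
  have hR : R = ⊤ := top_le_iff.1 (ht ▸ Algebra.adjoin_le fun h hh => ?_)
  · exact fun y => (hR.ge Algebra.mem_top : y ∈ R)
  · obtain ⟨b', hb'⟩ := hlift (b h) (hφ _ (Finset.mem_insert_of_mem (Finset.mem_image_of_mem _ hh)))
    obtain ⟨v, hv⟩ : IsUnit (A.spec.presheaf.map (homOfLE (A.spec.basicOpen_le c')).op c') :=
      RingedSpace.isUnit_res_basicOpen _ c'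
    refine ⟨A.spec.presheaf.map (homOfLE (A.spec.basicOpen_le c')).op b' * ↑v⁻¹ ^ n h, ?_⟩
    have h1 := hb h
    have e1 := hres c'
    rw [hc'] at e1
    have e2 := hres b'
    rw [hb'] at e2
    rw [← e1, ← e2, ← hv] at h1
    show ρ _ = h
    rw [map_mul, show ρ (A.spec.presheaf.map (homOfLE (A.spec.basicOpen_le c')).op b') = _ from h1.symm,
      map_pow, mul_assoc, ← mul_pow]
    have h2 : ρ ↑v * ρ ↑v⁻¹ = 1 := by rw [← map_mul, Units.mul_inv, map_one]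
    erw [h2]
    rw [one_pow, mul_one]

theorem exists_finiteType_subalgebra [CompactSpace Y] [QuasiSeparatedSpace Y] (f : X ⟶ Y)
    [LocallyOfFiniteType f] [QuasiCompact f] (C : RelSpec.QCAlg Y) (g : X ⟶ C.spec) (hg : g ≫ C.π = f)
    [IsImmersion g] :
    ∃ (C' : RelSpec.QCAlg Y) (φ : C' ⟶ C),
      (∀ U : Y.Opens, Function.Injective (φ.hom.app (op U))) ∧
      (∀ U : Y.affineOpens, (C'.str.app (op (U : Y.Opens))).hom.FiniteType) ∧
      IsImmersion (g ≫ RelSpec.QCAlg.specMap φ) := by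
  classical
  haveI : CompactSpace X := QuasiCompact.compactSpace_of_compactSpace f
  have hpt : ∀ x : X, ∃ (U : Y.affineOpens) (c : Γ(C.spec, C.π ⁻¹ᵁ U.1)),
      x ∈ g ⁻¹ᵁ C.spec.basicOpen c ∧ C.spec.basicOpen c ≤ g.coborderRange := fun x => by
    obtain ⟨U, hU, hxU, -⟩ := exists_isAffineOpen_mem_and_subset (U := (⊤ : Y.Opens))
      (show C.π (g x) ∈ (⊤ : Y.Opens) from trivial)
    obtain ⟨c, hc, hxc⟩ := (RelSpecLib.isAffineOpen_preimage C U hU).exists_basicOpen_le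
      (V := g.coborderRange) ⟨g x, subset_coborder ⟨x, rfl⟩⟩ hxU
    exact ⟨⟨U, hU⟩, c, hxc, hc⟩
  choose U c hxc hle using hpt
  obtain ⟨S, hS⟩ := isCompact_univ.elim_finite_subcover
    (fun x => ((g ⁻¹ᵁ C.spec.basicOpen (c x) : X.Opens) : Set X)) (fun x => (g ⁻¹ᵁ _).2)
    fun x _ => Set.mem_iUnion.2 ⟨x, hxc x⟩
  choose s hs using fun x : X => closed_restrict_specMap f g hg (U x).1 (U x).2 (c x)
    (RelProjLib.restrict_isClosedImmersion_of_immersion g (hle x))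
  haveI := ProjBundleLib.isQCoh_toModule C
  have hsub : ∀ p : (a : S) × s a.1, ∃ (H : Y.Modules) (i : H ⟶ C.toModule), Mono i ∧ Coh.IsQCoh H ∧
      CohB1.IsFT H ∧ ∃ z, i.app (U p.1.1).1 z = p.2.1 := fun p => by
    obtain ⟨H, i, h1, h2, h3, z, hz⟩ := S9819.result C.toModule (U p.1.1) p.2.1
    exact ⟨H, i, h1, h2, h3, z, hz⟩
  choose H i hi hq hf z hz using hsub
  obtain ⟨E, j, -, hEq, hEf, hcont⟩ := RelSpecLib.exists_ft_containing C.toModule H i hi hq hf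
  haveI := hEq
  refine ⟨RelSpecLib.subAlg C j, RelSpecLib.subIncl C j, fun V => Subtype.val_injective,
    fun V => RelSpecLib.finiteType_subAlg C j hEf V, ?_⟩
  have hmem : ∀ (a : S) (b : C.presheaf.obj (op (U a.1).1)), b ∈ s a.1 →
      b ∈ Set.range ((RelSpecLib.subIncl C j).hom.app (op (U a.1).1)).hom := fun a b hb => by
    obtain ⟨e, he⟩ := hcont ⟨a, b, hb⟩ (U a.1).1 (z ⟨a, b, hb⟩)
    exact ⟨⟨RelSpecLib.jsec C j e, RelSpecLib.jsec_mem_sub C j e⟩, he.trans (hz ⟨a, b, hb⟩)⟩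
  choose O hO hcl using fun a : S => hs a.1 _ (RelSpecLib.subIncl C j) (hmem a)
  refine RelProjLib.Colim.isImmersion_of_restrict _ O (eq_top_iff.2 fun x _ => ?_) hcl
  obtain ⟨a, ha, hxa⟩ := Set.mem_iUnion₂.1 (hS (Set.mem_univ x))
  rw [Scheme.Hom.preimage_iSup]
  exact Opens.mem_iSup.2 ⟨⟨a, ha⟩, (hO ⟨a, ha⟩).ge hxa⟩

end Groth.Agent.SubAlgImmLib
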